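import Groth.Agent.H28Pinch.FreeBasisIso
import Groth.Agent.H28Pinch.GlueModule
import Groth.Agent.H17.PullSectLocal

/-!
# Descent of morphisms of finite locally free modules along a morphism with an exact cosimplicial start
-/

set_option autoImplicit false
set_option linter.style.haveILetI false
set_option linter.unusedSectionVars false

universe u

open AlgebraicGeometry CategoryTheory CategoryTheory.Limits TopologicalSpace Opposite

namespace Groth.Agent.H8Props.DescHom

open Groth.Agent.H28Pinch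

variable {P X Y : Scheme.{u}}

theorem congr_app {a b : P ⟶ Y} (e : a = b) {M N : Y.Modules}
    (Φ : (Scheme.Modules.pullback b).obj M ⟶ (Scheme.Modules.pullback b).obj N) {W : Y.Opens}
    {r : ℕ} (m : Fin r → Γ(N, W)) (s : Γ(M, W)) (d : Fin r → Γ(P, b ⁻¹ᵁ W))
    (hd : Φ.app (b ⁻¹ᵁ W) (OmegaSh.pullSect b M W s) =
      comb _ (fun j => OmegaSh.pullSect b N W (m j)) le_rfl d) :
    ((Scheme.Modules.pullbackCongr e).hom.app M ≫ Φ ≫ (Scheme.Modules.pullbackCongr e).inv.app N).app (a ⁻¹ᵁ W)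
        (OmegaSh.pullSect a M W s) =
      comb _ (fun j => OmegaSh.pullSect a N W (m j)) le_rfl
        (fun j => P.presheaf.map (eqToHom (congrArg (fun g : P ⟶ Y => g ⁻¹ᵁ W) e)).op (d j)) := by
  subst e
  simp only [Scheme.Modules.pullbackCongr, eqToIso_refl, Iso.refl_hom, Iso.refl_inv, NatTrans.id_app,
    Category.id_comp, Category.comp_id, eqToHom_refl, op_id, CategoryTheory.Functor.map_id]
  exact hd

/-- A morphism between pullbacks pulled back once more, on pulled back sections. -/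
theorem comp_app (p : P ⟶ X) (f : X ⟶ Y) {M N : Y.Modules}
    (φ : (Scheme.Modules.pullback f).obj M ⟶ (Scheme.Modules.pullback f).obj N) {W : Y.Opens}
    {r : ℕ} (m : Fin r → Γ(N, W)) (s : Γ(M, W)) (c : Fin r → Γ(X, f ⁻¹ᵁ W))
    (hc : φ.app (f ⁻¹ᵁ W) (OmegaSh.pullSect f M W s) = comb _ (fun j => OmegaSh.pullSect f N W (m j)) le_rfl c) :
    (((Scheme.Modules.pullbackComp p f).app M).inv ≫ (Scheme.Modules.pullback p).map φ ≫
        ((Scheme.Modules.pullbackComp p f).app N).hom).app ((p ≫ f) ⁻¹ᵁ W) (OmegaSh.pullSect (p ≫ f) M W s) =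
      comb _ (fun j => OmegaSh.pullSect (p ≫ f) N W (m j)) le_rfl (fun j => p.app (f ⁻¹ᵁ W) (c j)) := by
  rw [Scheme.Modules.Hom.comp_app, Scheme.Modules.Hom.comp_app, ConcreteCategory.comp_apply,
    ConcreteCategory.comp_apply]
  erw [H17.PullSect.pullSect_comp p f M W s]
  erw [← H17.PullSect.pullSect_natural p φ (f ⁻¹ᵁ W), hc]
  have key : ∀ j, ((Scheme.Modules.pullbackComp p f).app N).hom.app ((p ≫ f) ⁻¹ᵁ W)
      (OmegaSh.pullSect p _ (f ⁻¹ᵁ W) (OmegaSh.pullSect f N W (m j))) = OmegaSh.pullSect (p ≫ f) N W (m j) := by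
    intro j
    rw [← H17.PullSect.pullSect_comp p f N W (m j)]
    refine (ConcreteCategory.comp_apply _ _ _).symm.trans ?_
    rw [← Scheme.Modules.Hom.comp_app]
    show ((((Scheme.Modules.pullbackComp p f).app N).inv ≫ ((Scheme.Modules.pullbackComp p f).app N).hom).app _)
      (OmegaSh.pullSect (p ≫ f) N W (m j)) = _
    rw [Iso.inv_hom_id]
    rfl
  rw [comb, map_sum, comb]
  erw [map_sum]
  refine Finset.sum_congr rfl fun j _ => ?_
  rw [OmegaSh.pullSect_smul, H10Coh.mres_self, H10Coh.mres_self]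
  erw [Scheme.Modules.Hom.app_smul, key j]

variable (f : X ⟶ Y) (hinj : ∀ U : Y.Opens, Function.Injective (f.app U))

include hinj in
theorem injective_pullSect (M : Y.Modules) (hM : FlatMod.IsFinLocFree M) (U : Y.Opens) :
    Function.Injective (OmegaSh.pullSect f M U) := by
  have hqc := H8Props.FinLocFree.isQCoh_of_isFinLocFree M hM
  intro s t hst
  choose V n hxV e using fun x : U => hM x.1
  choose m hm using fun x : U => exists_isBasisOn_of_chart M (e x).some
  refine TopCat.Sheaf.eq_of_locally_eq' (H10Coh.sheafOf M) (fun x : U => U ⊓ V x) U (fun x => homOfLE inf_le_left)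
    (fun x hx => Opens.mem_iSup.2 ⟨⟨x, hx⟩, hx, hxV ⟨x, hx⟩⟩) _ _ fun x => ?_
  show M.presheaf.map (homOfLE inf_le_left).op s = M.presheaf.map (homOfLE inf_le_left).op t
  have hb := (hm x).mono (inf_le_right : U ⊓ V x ≤ V x)
  obtain ⟨c, hc⟩ := (hb _ le_rfl).2 (M.presheaf.map (homOfLE (inf_le_left : U ⊓ V x ≤ U)).op s)
  obtain ⟨d, hd⟩ := (hb _ le_rfl).2 (M.presheaf.map (homOfLE (inf_le_left : U ⊓ V x ≤ U)).op t)
  rw [← hc, ← hd]
  refine congrArg _ (funext fun j => hinj _ (congrFun ((hb.pullback f hqc _ le_rfl).1 (?_ :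
    comb _ _ _ (fun j => f.app _ (c j)) = comb _ _ _ (fun j => f.app _ (d j)))) j))
  have key : ∀ c', OmegaSh.pullSect f M (U ⊓ V x) (comb M (fun j => M.presheaf.map (homOfLE inf_le_right).op (m x j)) le_rfl c') =
      comb _ (fun j => OmegaSh.pullSect f M (U ⊓ V x) (M.presheaf.map (homOfLE inf_le_right).op (m x j))) le_rfl
        (fun j => f.app _ (c' j)) := fun c' => by
    rw [comb, map_sum, comb]
    exact Finset.sum_congr rfl fun j _ => by rw [OmegaSh.pullSect_smul, H10Coh.mres_self, H10Coh.mres_self]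
  rw [← key, ← key, hc, hd, OmegaSh.pullSect_map, OmegaSh.pullSect_map, hst]

include hinj in
/-- Morphisms between finite locally free modules descend. -/
theorem existsUnique_hom {p₁ p₂ : P ⟶ X} (e : p₁ ≫ f = p₂ ≫ f)
    (hex : ∀ (U : Y.Opens) (a : Γ(X, f ⁻¹ᵁ U)),
      p₁.app (f ⁻¹ᵁ U) a =
        (P.presheaf.map (eqToHom (congrArg (fun g : P ⟶ Y => g ⁻¹ᵁ U) e)).op) (p₂.app (f ⁻¹ᵁ U) a) →
      a ∈ Set.range (f.app U))
    (L M : Y.Modules) (hM : FlatMod.IsFinLocFree M)
    (φ : (Scheme.Modules.pullback f).obj L ⟶ (Scheme.Modules.pullback f).obj M)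
    (hφ : ((Scheme.Modules.pullbackComp p₁ f).app L).inv ≫
        (Scheme.Modules.pullback p₁).map φ ≫ ((Scheme.Modules.pullbackComp p₁ f).app M).hom =
      ((Scheme.Modules.pullbackCongr e).app L).hom ≫
        ((Scheme.Modules.pullbackComp p₂ f).app L).inv ≫
        (Scheme.Modules.pullback p₂).map φ ≫ ((Scheme.Modules.pullbackComp p₂ f).app M).hom ≫
        ((Scheme.Modules.pullbackCongr e).app M).inv) :
    ∃! ψ : L ⟶ M, (Scheme.Modules.pullback f).map ψ = φ := by
  have hqc := H8Props.FinLocFree.isQCoh_of_isFinLocFree M hM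
  let adj := Scheme.Modules.pullbackPushforwardAdjunction f
  let η := adj.unit.app M
  have hηinj := injective_pullSect f hinj M hM
  have hlocal : ∀ (U : Y.Opens) (s : Γ(L, U)), ∃ t : Γ(M, U),
      OmegaSh.pullSect f M U t = φ.app (f ⁻¹ᵁ U) (OmegaSh.pullSect f L U s) := by
    intro U s
    choose V n hxV he using fun x : U => hM x.1
    choose m hm using fun x : U => exists_isBasisOn_of_chart M (he x).some
    have hloc : ∀ x : U, ∃ t : Γ(M, U ⊓ V x), OmegaSh.pullSect f M (U ⊓ V x) t =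
        φ.app (f ⁻¹ᵁ (U ⊓ V x)) (OmegaSh.pullSect f L (U ⊓ V x) (L.presheaf.map (homOfLE inf_le_left).op s)) := by
      intro x
      let s' := L.presheaf.map (homOfLE (inf_le_left : U ⊓ V x ≤ U)).op s
      let b := fun j => M.presheaf.map (homOfLE (inf_le_right : U ⊓ V x ≤ V x)).op (m x j)
      have hb : IsBasisOn M b := (hm x).mono inf_le_right
      obtain ⟨c, hc⟩ := (hb.pullback f hqc _ le_rfl).2 (φ.app (f ⁻¹ᵁ (U ⊓ V x)) (OmegaSh.pullSect f L (U ⊓ V x) s'))
      have h1 := comp_app p₁ f φ b s' c hc.symm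
      have h2 := congr_app e _ b s' (fun j => p₂.app (f ⁻¹ᵁ (U ⊓ V x)) (c j)) (comp_app p₂ f φ b s' c hc.symm)
      rw [hφ] at h1
      simp only [Category.assoc] at h2
      have heq := (hb.pullback (p₁ ≫ f) hqc _ le_rfl).1 (h1.symm.trans h2)
      choose d hd using fun j => hex _ (c j) (congrFun heq j)
      refine ⟨comb M b le_rfl d, ?_⟩
      rw [← hc, comb, map_sum, comb]
      exact Finset.sum_congr rfl fun j _ => by
        rw [OmegaSh.pullSect_smul, H10Coh.mres_self, H10Coh.mres_self, hd]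
    choose t ht using hloc
    obtain ⟨t₀, ht₀, -⟩ := TopCat.Sheaf.existsUnique_gluing' (H10Coh.sheafOf M) (fun x : U => U ⊓ V x) U
      (fun x => homOfLE inf_le_left) (fun x hx => Opens.mem_iSup.2 ⟨⟨x, hx⟩, hx, hxV ⟨x, hx⟩⟩) t fun x y => by
        let l₁ : U ⊓ V x ⊓ (U ⊓ V y) ≤ U ⊓ V x := inf_le_left
        let l₂ : U ⊓ V x ⊓ (U ⊓ V y) ≤ U ⊓ V y := inf_le_right
        show M.presheaf.map (homOfLE l₁).op (t x) = M.presheaf.map (homOfLE l₂).op (t y)
        apply hηinj
        rw [OmegaSh.pullSect_map _ _ l₁, OmegaSh.pullSect_map _ _ l₂, ht, ht, ← H11Tilde.app_map_apply,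
          ← H11Tilde.app_map_apply, ← OmegaSh.pullSect_map _ _ l₁, ← OmegaSh.pullSect_map _ _ l₂, H10Coh.mres_mres,
          H10Coh.mres_mres]
    refine ⟨t₀, TopCat.Sheaf.eq_of_locally_eq' (H10Coh.sheafOf ((Scheme.Modules.pullback f).obj M))
      (fun x : U => f ⁻¹ᵁ (U ⊓ V x)) (f ⁻¹ᵁ U) (fun x => homOfLE (f.preimage_mono inf_le_left)) ?_ _ _ fun x => ?_⟩
    · intro z hz
      exact Opens.mem_iSup.2 ⟨⟨f z, hz⟩, hz, hxV ⟨f z, hz⟩⟩
    · show ((Scheme.Modules.pullback f).obj M).presheaf.map (homOfLE _).op (OmegaSh.pullSect f M U t₀) =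
        ((Scheme.Modules.pullback f).obj M).presheaf.map (homOfLE _).op (φ.app _ (OmegaSh.pullSect f L U s))
      rw [← OmegaSh.pullSect_map f M (inf_le_left : U ⊓ V x ≤ U), ← H11Tilde.app_map_apply,
        ← OmegaSh.pullSect_map f L (inf_le_left : U ⊓ V x ≤ U)]
      exact (congrArg (OmegaSh.pullSect f M _) (ht₀ x)).trans (ht x)
  let φ' := adj.homEquiv L _ φ
  have happ : ∀ (U : Y.Opens) (s : Γ(L, U)), φ'.app U s = φ.app (f ⁻¹ᵁ U) (OmegaSh.pullSect f L U s) := by
    intro U s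
    show (adj.homEquiv L _ φ).app U s = _
    rw [Adjunction.homEquiv_unit]
    rfl
  haveI : Mono η := ⟨fun g h hgh => Scheme.Modules.hom_ext _ _ fun U => ConcreteCategory.hom_ext _ _ fun s =>
    hηinj U (by
      show (g ≫ η).app U s = (h ≫ η).app U s
      rw [hgh])⟩
  have hzero : φ' ≫ cokernel.π η = 0 := Scheme.Modules.hom_ext _ _ fun U => ConcreteCategory.hom_ext _ _ fun s => by
    obtain ⟨t, ht⟩ := hlocal U s
    show (cokernel.π η).app U (φ'.app U s) = 0
    rw [happ, ← ht]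
    show ((η ≫ cokernel.π η).app U) t = 0
    rw [cokernel.condition]
    rfl
  refine ⟨Abelian.monoLift η φ' hzero, ?_, fun ψ hψ => ?_⟩
  · refine (adj.homEquiv L _).injective ?_
    rw [Adjunction.homEquiv_unit]
    exact ((adj.unit.naturality (Abelian.monoLift η φ' hzero)).symm.trans (Abelian.monoLift_comp η φ' hzero))
  · rw [← cancel_mono η, Abelian.monoLift_comp, show φ' = adj.homEquiv L _ φ from rfl, ← hψ, Adjunction.homEquiv_unit]
    exact adj.unit.naturality ψ

end Groth.Agent.H8Props.DescHom
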